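import Cfsg.Agent.Fus.Alperin
import Cfsg.Agent.Fus.Normal
import Cfsg.Agent.Transfer.Basic

set_option autoImplicit false

/-! Focal and hyperfocal subgroups; normal closures inside weakly normal subsystems. -/

namespace Cfsg.Agent.Fus

open Cfsg Cfsg.FusionSystem
open scoped commutatorElement

variable {Ω : Type*} [Group Ω] {S : Subgroup Ω} {F : FusionSystem S}

/-- Alperin with automizers split as `O^p(Aut) · Aut_S`. -/
theorem le_of_residual_and_inner [Finite S] {p : ℕ} [Fact p.Prime] (hS : IsPGroup p S) (hF : F.IsSaturated p)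
    (E : FusionSystem S)
    (h : ∀ P : Subgroup Ω, P ≤ S → (pResidual p (F.autGroup P)).map (F.autGroup P).subtype ≤ E.autGroup P) :
    F ≤ E := by
  refine alperin_le hS hF E fun P hP => ?_
  have hfn : F.IsFullyNormalized P := hP.elim (fun e => by rw [e]; exact isFullyNormalized_top) fun e => e.2.1
  obtain ⟨-, R, hR⟩ := (fullyNormalized_props hS hF hfn).2
  have : Finite P := finite_le hfn.1
  intro α hα
  have hm : (⟨α, hα⟩ : F.autGroup P) ∈ pResidual p (F.autGroup P) ⊔ (R : Subgroup (F.autGroup P)) := by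
    rw [Transfer.pResidual_sup_sylow]; trivial
  have hle : pResidual p (F.autGroup P) ⊔ (R : Subgroup (F.autGroup P)) ≤ (E.autGroup P).subgroupOf (F.autGroup P) := by
    refine sup_le (fun γ hγ => Subgroup.mem_subgroupOf.2 (h P hfn.1 ⟨γ, hγ, rfl⟩)) ?_
    rw [hR]
    exact fun γ hγ => Subgroup.mem_subgroupOf.2 (autInducedBy_le_autGroup hfn.1 le_rfl hγ)
  exact Subgroup.mem_subgroupOf.1 (hle hm)

theorem residual_step [Finite S] {p : ℕ} {P : Subgroup Ω} (hP : P ≤ S) {α : MulAut P}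
    (hα : α ∈ (pResidual p (F.autGroup P)).map (F.autGroup P).subtype) (x : P) :
    (x : Ω)⁻¹ * (α x : Ω) ∈ F.hyperfocalSubgroup p := by
  obtain ⟨γ, hγ, rfl⟩ := hα
  exact Subgroup.subset_closure ⟨P, γ, x, hP, hγ, rfl⟩

theorem hyperfocal_le (p : ℕ) : F.hyperfocalSubgroup p ≤ S := by
  rw [hyperfocalSubgroup, Subgroup.closure_le]
  rintro _ ⟨P, α, x, hP, -, rfl⟩
  exact S.mul_mem (S.inv_mem (hP x.2)) (hP ((α : MulAut P) x).2)

theorem hyperfocal_conj [Finite S] {p : ℕ} {s : Ω} (hs : s ∈ S) {h : Ω} (hh : h ∈ F.hyperfocalSubgroup p) :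
    s * h * s⁻¹ ∈ F.hyperfocalSubgroup p := by
  induction hh using Subgroup.closure_induction with
  | mem y hy =>
    obtain ⟨P, α, x, hP, hα, rfl⟩ := hy
    let P' := P.map (MulAut.conj s).toMonoidHom
    let e : P ≃* P' := Subgroup.equivMapOfInjective P _ (MulAut.conj s).injective
    have he : IsoMem F e := conj_mem' hP hs fun z => rfl
    let c : F.autGroup P →* F.autGroup P' :=
      { toFun := fun γ => ⟨MulAut.congr e (γ : MulAut P), congr_mem_autGroup he γ.2⟩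
        map_one' := Subtype.ext (map_one (MulAut.congr e))
        map_mul' := fun a b => Subtype.ext (map_mul (MulAut.congr e) (a : MulAut P) (b : MulAut P)) }
    have hc : c α ∈ pResidual p (F.autGroup P') := by
      have : pResidual p (F.autGroup P) ≤ (pResidual p (F.autGroup P')).comap c := by
        rw [pResidual, Subgroup.closure_le]
        intro γ hγ
        exact Subgroup.subset_closure (Nat.Coprime.coprime_dvd_left (orderOf_map_dvd c γ) hγ)
      exact this hα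
    refine Subgroup.subset_closure ⟨P', c α, e x, (isoMem_le he).2, hc, ?_⟩
    have e1 : ((MulAut.congr e (α : MulAut P)) (e x) : Ω) = s * (((α : MulAut P) x : P) : Ω) * s⁻¹ := by
      show ((e ((α : MulAut P) (e.symm (e x))) : P') : Ω) = _
      rw [e.symm_apply_apply]; rfl
    show _ = ((e x : P') : Ω)⁻¹ * ((MulAut.congr e (α : MulAut P)) (e x) : Ω)
    rw [e1, show ((e x : P') : Ω) = s * (x : Ω) * s⁻¹ from rfl]
    group
  | one => simp
  | mul a b _ _ iha ihb =>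
    have := (F.hyperfocalSubgroup p).mul_mem iha ihb
    convert this using 1
    group
  | inv a _ iha =>
    have := (F.hyperfocalSubgroup p).inv_mem iha
    convert this using 1
    group

/-- The subsystem of maps preserving membership in a subgroup normalized by `S`. -/
def presSystem (F : FusionSystem S) (H : Subgroup Ω) (hH : ∀ s ∈ S, ∀ h, h ∈ H ↔ s * h * s⁻¹ ∈ H) : FusionSystem S where
  Hom P := {φ | φ ∈ F.Hom P ∧ ∀ x : P, (x : Ω) ∈ H ↔ φ x ∈ H}
  le_of_mem h := F.le_of_mem h.1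
  injective_of_mem h := F.injective_of_mem h.1
  conj_mem hP hg := ⟨F.conj_mem hP hg, fun x => hH _ hg x⟩
  comp_mem := by
    intro P Q φ ψ hφ hψ hc
    exact ⟨F.comp_mem hφ.1 hψ.1 hc, fun x => (hφ.2 x).trans (hψ.2 ⟨φ x, hc x⟩)⟩
  inv_mem := by
    intro P φ hφ
    obtain ⟨ψ, hψ, h⟩ := F.inv_mem hφ.1
    refine ⟨ψ, ⟨hψ, ?_⟩, h⟩
    rintro ⟨_, x, rfl⟩
    rw [h x]
    exact (hφ.2 x).symm

/-- The subsystem of maps moving elements only inside cosets of `K`. -/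
def cosetSystem (F : FusionSystem S) (K : Subgroup Ω) (hK : ∀ s ∈ S, ∀ x ∈ S, x⁻¹ * (s * x * s⁻¹) ∈ K) :
    FusionSystem S where
  Hom P := {φ | φ ∈ F.Hom P ∧ ∀ x : P, (x : Ω)⁻¹ * φ x ∈ K}
  le_of_mem h := F.le_of_mem h.1
  injective_of_mem h := F.injective_of_mem h.1
  conj_mem hP hg := ⟨F.conj_mem hP hg, fun x => hK _ hg x (hP x.2)⟩
  comp_mem := by
    intro P Q φ ψ hφ hψ hc
    refine ⟨F.comp_mem hφ.1 hψ.1 hc, fun x => ?_⟩
    have h1 := K.mul_mem (hφ.2 x) (hψ.2 ⟨φ x, hc x⟩)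
    show (x : Ω)⁻¹ * ψ ⟨φ x, hc x⟩ ∈ K
    simpa [mul_assoc] using h1
  inv_mem := by
    intro P φ hφ
    obtain ⟨ψ, hψ, h⟩ := F.inv_mem hφ.1
    refine ⟨ψ, ⟨hψ, ?_⟩, h⟩
    rintro ⟨_, x, rfl⟩
    rw [h x]
    simpa [mul_inv_rev] using K.inv_mem (hφ.2 x)

theorem hyperfocal_stronglyClosed [Finite S] {p : ℕ} [Fact p.Prime] (hS : IsPGroup p S) (hF : F.IsSaturated p) :
    F.StronglyClosed (F.hyperfocalSubgroup p) := by
  have hH : ∀ s ∈ S, ∀ h, h ∈ F.hyperfocalSubgroup p ↔ s * h * s⁻¹ ∈ F.hyperfocalSubgroup p := fun s hs h =>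
    ⟨hyperfocal_conj hs, fun h' => by simpa [mul_assoc] using hyperfocal_conj (S.inv_mem hs) h'⟩
  have hle : F ≤ presSystem F _ hH := by
    refine le_of_residual_and_inner hS hF _ fun P hP α hα => ?_
    refine (mem_autGroup hP).2 ⟨(mem_autGroup hP).1 (Subgroup.map_subtype_le _ hα), fun x => ?_⟩
    exact ⟨fun hx => by
      simpa using Subgroup.mul_mem _ hx (residual_step hP hα x), fun hx => by
      simpa using Subgroup.mul_mem _ hx (Subgroup.inv_mem _ (residual_step hP hα x))⟩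
  exact ⟨hyperfocal_le p, fun R hR φ hφ x => ((hle R hφ).2 x).1 (hR x.2)⟩

theorem focal_eq [Finite S] {p : ℕ} [Fact p.Prime] (hS : IsPGroup p S) (hF : F.IsSaturated p) :
    F.focalSubgroup = F.hyperfocalSubgroup p ⊔ ⁅S, S⁆ := by
  refine le_antisymm ?_ (sup_le ?_ ?_)
  · have hK : ∀ s ∈ S, ∀ x ∈ S, x⁻¹ * (s * x * s⁻¹) ∈ F.hyperfocalSubgroup p ⊔ ⁅S, S⁆ := by
      intro s hs x hx
      refine Subgroup.mem_sup_right ?_
      have := Subgroup.commutator_mem_commutator (S.inv_mem hx) hs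
      convert this using 1
      rw [commutatorElement_def]; group
    have hle : F ≤ cosetSystem F _ hK := le_of_residual_and_inner hS hF _ fun P hP α hα =>
      (mem_autGroup hP).2 ⟨(mem_autGroup hP).1 (Subgroup.map_subtype_le _ hα),
        fun x => Subgroup.mem_sup_left (residual_step hP hα x)⟩
    rw [focalSubgroup, Subgroup.closure_le]
    rintro _ ⟨P, φ, x, hφ, rfl⟩
    exact (hle P hφ).2 x
  · rw [hyperfocalSubgroup, Subgroup.closure_le]
    rintro _ ⟨P, α, x, hP, -, rfl⟩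
    exact Subgroup.subset_closure ⟨P, _, x, (mem_autGroup hP).1 α.2, rfl⟩
  · rw [Subgroup.commutator_le]
    intro a ha b hb
    refine Subgroup.subset_closure ⟨S, conjHom S b, ⟨a⁻¹, S.inv_mem ha⟩, F.conj_mem le_rfl hb, ?_⟩
    show _ = (a⁻¹)⁻¹ * (b * a⁻¹ * b⁻¹)
    rw [commutatorElement_def]; group

theorem normal_closure_isNormal [Finite S] {p : ℕ} [Fact p.Prime] (hS : IsPGroup p S) (hF : F.IsSaturated p)
    {T : Subgroup Ω} {E : FusionSystem T} (hE : E.IsInvariantIn F) {R : Subgroup Ω} (hR : E.IsNormal R) :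
    F.IsNormal (Subgroup.closure {x : Ω | ∃ φ ∈ F.Hom R, ∃ r : R, x = φ r}) := by
  set K := Subgroup.closure {x : Ω | ∃ φ ∈ F.Hom R, ∃ r : R, x = φ r}
  obtain ⟨hsub, hsc, hinv, hfr⟩ := hE
  have hTS : T ≤ S := hsc.1
  have hRT : R ≤ T := hR.1
  have hKT : K ≤ T := by
    rw [Subgroup.closure_le]
    rintro _ ⟨φ, hφ, r, rfl⟩
    exact hsc.2 R hRT φ hφ r
  have hextR := extProp_of_normal hR
  -- every map of `E` with source inside `K` extends to an automorphism preserving each image of `R`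
  let K' : Subgroup Ω := ⨆ a : F.autGroup T, (R.subgroupOf T).map (T.subtype.comp (a : MulAut T).toMonoidHom)
  have hKK' : K = K' := by
    apply le_antisymm
    · rw [Subgroup.closure_le]
      rintro _ ⟨φ, hφ, r, rfl⟩
      obtain ⟨α, hα, φ₀, hφ₀, h⟩ := hfr R hRT φ hφ
      have hm : φ₀ r ∈ R := by
        obtain ⟨β, -, hb⟩ := hextR R le_rfl φ₀ hφ₀
        rw [← hb r]; exact (β _).2
      rw [h r (hRT hm)]
      exact (le_iSup (fun a : F.autGroup T => (R.subgroupOf T).map (T.subtype.comp (a : MulAut T).toMonoidHom))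
        ⟨α, hα⟩) ⟨⟨φ₀ r, hRT hm⟩, hm, rfl⟩
    · refine iSup_le fun a => ?_
      rintro _ ⟨t, ht, rfl⟩
      exact Subgroup.subset_closure ⟨_, restrict_mem ((mem_autGroup hTS).1 a.2) hRT, ⟨t, ht⟩, rfl⟩
  -- each image of `R` is normal in `E`
  have himg : ∀ a ∈ F.autGroup T, E.IsNormal ((R.subgroupOf T).map (T.subtype.comp (a : MulAut T).toMonoidHom)) := by
    intro a ha
    refine ⟨by rintro _ ⟨t, -, rfl⟩; exact (a t).2, fun P φ hφ => ?_⟩
    have hPT : P ≤ T := hom_le hφ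
    set P₀ := (P.subgroupOf T).map (T.subtype.comp (a⁻¹ : MulAut T).toMonoidHom)
    obtain ⟨χ, hχ, hχ'⟩ := hinv P hPT φ hφ a⁻¹ (Subgroup.inv_mem _ ha)
    obtain ⟨ψ, hψ, hψ1, hψ2⟩ := hR.2 P₀ χ hχ
    have hP0T : P₀ ≤ T := by rintro _ ⟨t, -, rfl⟩; exact ((a⁻¹ : MulAut T) t).2
    obtain ⟨κ, hκ, hκ'⟩ := hinv (P₀ ⊔ R) (sup_le hP0T hRT) ψ hψ a ha
    set Q := (R.subgroupOf T).map (T.subtype.comp (a : MulAut T).toMonoidHom)
    have hQT : Q ≤ T := by rintro _ ⟨t, -, rfl⟩; exact (a t).2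
    have hle : P ⊔ Q ≤ ((P₀ ⊔ R).subgroupOf T).map (T.subtype.comp (a : MulAut T).toMonoidHom) := by
      refine sup_le (fun x hx => ?_) ?_
      · refine ⟨(a⁻¹ : MulAut T) ⟨x, hPT hx⟩, Subgroup.mem_sup_left ⟨⟨x, hPT hx⟩, hx, rfl⟩, ?_⟩
        exact congrArg Subtype.val (MulAut.apply_inv_self T a _)
      · exact Subgroup.map_mono fun t ht => Subgroup.mem_sup_right ht
    refine ⟨_, restrict_mem hκ hle, fun x => ?_, ?_⟩
    · have h1 : (((a⁻¹ : MulAut T) ⟨x, hPT x.2⟩ : T) : Ω) ∈ P₀ := ⟨⟨x, hPT x.2⟩, x.2, rfl⟩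
      have hφT : φ x ∈ T := hom_apply_mem hφ x
      have h2 := hχ' x hφT h1
      have h3 := hψ1 ⟨_, h1⟩
      have hm : (((a⁻¹ : MulAut T) ⟨x, hPT x.2⟩ : T) : Ω) ∈ P₀ ⊔ R := Subgroup.mem_sup_left h1
      have hψT : ψ ⟨_, hm⟩ ∈ T := hom_apply_mem hψ _
      have e : a ⟨(((a⁻¹ : MulAut T) ⟨x, hPT x.2⟩ : T) : Ω), sup_le hP0T hRT hm⟩ = ⟨x, hPT x.2⟩ :=
        MulAut.apply_inv_self T a _
      have hmem : (a ⟨(((a⁻¹ : MulAut T) ⟨x, hPT x.2⟩ : T) : Ω), sup_le hP0T hRT hm⟩ : Ω) ∈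
          ((P₀ ⊔ R).subgroupOf T).map (T.subtype.comp (a : MulAut T).toMonoidHom) := ⟨_, hm, rfl⟩
      have h4 := hκ' ⟨_, hm⟩ hψT hmem
      refine (congrArg κ (Subtype.ext (congrArg Subtype.val e).symm)).trans (h4.trans ?_)
      have e2 : (⟨ψ ⟨_, hm⟩, hψT⟩ : T) = (a⁻¹ : MulAut T) ⟨φ x, hφT⟩ :=
        Subtype.ext ((congrArg ψ (Subtype.ext rfl)).trans (h3.trans h2))
      rw [e2, MulAut.apply_inv_self]
    · rw [map_subgroupOf_eq le_sup_right]
      rw [map_subgroupOf_eq le_sup_right] at hψ2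
      have key : ∀ r : T, (r : Ω) ∈ R → ∀ hz, (κ ⟨(a r : Ω), hz⟩) ∈ Q ∧
          ∀ (hm : (r : Ω) ∈ P₀ ⊔ R) (hq : ψ ⟨r, hm⟩ ∈ T), κ ⟨(a r : Ω), hz⟩ = (a ⟨ψ ⟨r, hm⟩, hq⟩ : Ω) := by
        intro r hr hz
        have hm : (r : Ω) ∈ P₀ ⊔ R := Subgroup.mem_sup_right hr
        have hψR : ψ ⟨r, hm⟩ ∈ R := hψ2.le ⟨⟨r, hr⟩, rfl⟩
        have h4 := hκ' ⟨r, hm⟩ (hRT hψR) hz
        exact ⟨h4 ▸ ⟨⟨_, hRT hψR⟩, hψR, rfl⟩, fun _ _ => h4⟩
      ext y
      constructor
      · rintro ⟨⟨_, r, hr, rfl⟩, rfl⟩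
        exact (key r hr _).1
      · rintro ⟨r, hr, rfl⟩
        obtain ⟨r', hr'⟩ := hψ2.ge hr
        let t : T := ⟨r', hRT r'.2⟩
        refine ⟨⟨(a t : Ω), t, r'.2, rfl⟩, ?_⟩
        show κ ⟨(a t : Ω), _⟩ = (a r : Ω)
        refine Eq.trans ((key t r'.2 _).2 (Subgroup.mem_sup_right r'.2) ?_) ?_
        · exact (hRT (hψ2.le ⟨r', rfl⟩))
        · exact congrArg (fun z => ((a z : T) : Ω)) (Subtype.ext hr')
  have : Finite T := finite_le hTS
  have hKn : E.IsNormal K := by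
    rw [hKK']
    refine sSup_mem_of_finite (p := fun Q => E.IsNormal Q) isNormal_bot (fun a b ha hb => isNormal_sup ha hb)
      (Set.finite_range _) ?_
    rintro _ ⟨a, rfl⟩
    exact himg a a.2
  refine (normal_iff_extProp hS hF (hKT.trans hTS)).2 fun P hP φ hφ => ?_
  obtain ⟨α, hα, φ₀, hφ₀, h⟩ := hfr P (hP.trans hKT) φ hφ
  obtain ⟨β, hβ, hb⟩ := extProp_of_normal hKn P hP φ₀ hφ₀
  have hαK : ((T.subtype.comp α.toMonoidHom).comp (Subgroup.inclusion hKT)).range = K := by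
    have : Finite K := finite_le (hKT.trans hTS)
    have hm := restrict_mem ((mem_autGroup hTS).1 hα) hKT
    refine Subgroup.eq_of_le_of_card_ge ?_ (card_range_of_hom hm).ge
    rintro _ ⟨⟨x, hx⟩, rfl⟩
    show (α ⟨x, hKT hx⟩ : Ω) ∈ K
    rw [hKK'] at hx ⊢
    have hle : K' ≤ ((K'.comap (T.subtype.comp α.toMonoidHom)).map T.subtype) := by
      refine iSup_le fun a => ?_
      rintro _ ⟨t, ht, rfl⟩
      refine ⟨a.1 t, ?_, rfl⟩
      exact (le_iSup (fun b : F.autGroup T => (R.subgroupOf T).map (T.subtype.comp (b : MulAut T).toMonoidHom))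
        (⟨α, hα⟩ * a)) ⟨t, ht, rfl⟩
    obtain ⟨w, hw, hwx⟩ := hle hx
    rw [show (⟨x, hKT (hKK' ▸ hx)⟩ : T) = w from Subtype.ext hwx.symm]
    exact hw
  obtain ⟨γ, hγ, hg⟩ := exists_aut_of_range (restrict_mem ((mem_autGroup hTS).1 hα) hKT) hαK
  refine ⟨γ * β, Subgroup.mul_mem _ hγ ?_, fun x => ?_⟩
  · exact (mem_autGroup (hKT.trans hTS)).2 (hsub K ((mem_autGroup hKT).1 hβ))
  · have hm : φ₀ x ∈ K := by rw [← hb x]; exact (β _).2
    rw [h x (hKT hm), MulAut.mul_apply, hg]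
    exact congrArg (fun z => ((α z : T) : Ω)) (Subtype.ext (hb x))

end Cfsg.Agent.Fus
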