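import Cfsg.Agent.Fus.MathieuPacked

set_option autoImplicit false
set_option maxHeartbeats 400000

/-!
The two certificates for `simple_of_checks`: the generated closed subgroup, and the absence of odd
automorphisms of the Sylow subgroup induced by the group.
-/

namespace Cfsg.Agent.Fus.Mathieu

open Cfsg Cfsg.Agent.M24
open scoped Pointwise

/-- Value of a word over a list of known elements. -/
def word (L : List ℕ) (w : List ℕ) : ℕ := w.foldr (fun i acc => pmul (L.getD i idp) acc) idp

/-- Conjugation steps enlarging the list of known elements. -/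
def closRun (P D : ℕ) (E : List ℕ) : List ℕ → List (List ℕ × ℕ × ℕ) → Option (List ℕ)
  | L, [] => some L
  | L, (w, g, y) :: rest =>
    if memB P D g && E.contains y && pmul g (word L w) == pmul y g then closRun P D E (L ++ [y]) rest
    else none

/-- A step forcing a further fixed point. -/
inductive Fix where
  | z (i : ℕ)
  | oct (x : ℕ) (os : List ℕ)

/-- The new set of fixed points. -/
def Fix.run (z F : ℕ) : Fix → Option ℕ
  | .z i => if decide (i < 24) && F.testBit i then some (F ||| 2 ^ papp z i) else none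
  | .oct x os => if stepOk F x os then some (F ||| 2 ^ x) else none

/-- A chain of steps reaching all points. -/
def runFix (z : ℕ) : ℕ → List Fix → Bool
  | F, [] => F == 16777215
  | F, s :: rest => match s.run z F with
    | some F' => runFix z F' rest
    | none => false

/-- Orbit mask of a point under a list of packed permutations. -/
def orbMask (SF : List ℕ) (i : ℕ) : ℕ := SF.foldr (fun s a => 2 ^ papp s i ||| a) 0

/-- At most two orbits of the same shape as that of `q`, outside the fixed points. -/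
def orbOk (D : ℕ) (SF : List ℕ) (F q q' : ℕ) : Bool :=
  decide (q < 24) && decide (q' < 24) && !F.testBit q && !F.testBit q' &&
    D.testBit q' == D.testBit q && pc (orbMask SF q') == pc (orbMask SF q) &&
    16777216 % pc (orbMask SF q) == 0 &&
    (List.range 24).all fun i => F.testBit i || D.testBit i != D.testBit q ||
      pc (orbMask SF i) != pc (orbMask SF q) || orbMask SF i == orbMask SF q ||
      orbMask SF i == orbMask SF q'

/-- A search tree showing that no element of odd prime order normalizes the subgroup. -/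
inductive Cert where
  | branch (kind : ℕ) (table : List (ℕ × List Fix))
  | fix (s : Fix) (c : Cert)
  | orb (q q' : ℕ) (c : Cert)

/-- The sets of points permuted by a branch. -/
def branchSet (D F : ℕ) : ℕ → ℕ
  | 0 => 16777215 ^^^ F
  | 1 => (16777215 ^^^ F) &&& D
  | _ => (16777215 ^^^ F) &&& (16777215 ^^^ D)

/-- Check of a search tree. -/
def Cert.ok (D z : ℕ) (E : List ℕ) : Cert → ℕ → Bool
  | .branch k tbl, F => 16777216 % pc (branchSet D F k) == 0 &&
      (List.range 24).all fun x => !(branchSet D F k).testBit x ||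
        tbl.any fun e => e.1 == x && runFix z (F ||| 2 ^ x) e.2
  | .fix s c, F => match s.run z F with
    | some F' => c.ok D z E F'
    | none => false
  | .orb q q' c, F => orbOk D (E.filter fun s => fixB s F) F q q' && c.ok D z E (F ||| 2 ^ q)

/-- All the checks. -/
def allOk (P D : ℕ) (gens : List (ℕ × ℕ)) (z : ℕ) (steps : List (List ℕ × ℕ × ℕ)) (words : List (List ℕ))
    (c : Cert) : Bool :=
  gens.all (fun a => memB P D a.1 && memB P D a.2) && sylOk [idp] [] gens &&
    (elems [idp] (gens.map Prod.fst)).contains z && !(z == idp) &&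
    gens.all (fun a => pmul z a.1 == pmul a.1 z && (elems [idp] (gens.map Prod.fst)).contains a.1) &&
    (elems [idp] (gens.map Prod.fst)).all (fun e =>
      (gens.map Prod.fst).any (fun g => !(pmul e g == pmul g e)) || e == idp || e == z) &&
    (closRun P D (elems [idp] (gens.map Prod.fst)) [z] steps).any
      (fun L => words.map (word L) == gens.map Prod.fst) &&
    c.ok D z (elems [idp] (gens.map Prod.fst)) P

section Closed

variable {K : Subgroup (Equiv.Perm GolayPt)}

/-- The codes in a list come from the subgroup `T`. -/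
def Codes (T : Subgroup K) (L : List ℕ) : Prop := ∀ p ∈ L, ∃ g : K, g ∈ T ∧ code (g : Equiv.Perm GolayPt) = p

theorem word_mem {T : Subgroup K} {L : List ℕ} (hL : Codes T L) :
    ∀ w : List ℕ, ∃ g : K, g ∈ T ∧ code (g : Equiv.Perm GolayPt) = word L w
  | [] => ⟨1, T.one_mem, by rw [Subgroup.coe_one, code_one, word, List.foldr_nil]⟩
  | i :: w => by
    obtain ⟨g, hg, hg'⟩ := word_mem hL w
    obtain ⟨a, ha, ha'⟩ : ∃ a : K, a ∈ T ∧ code (a : Equiv.Perm GolayPt) = L.getD i idp := by
      rcases lt_or_ge i L.length with hi | hi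
      · rw [List.getD_eq_getElem _ _ hi]; exact hL _ (List.getElem_mem hi)
      · rw [List.getD_eq_default _ _ hi]; exact ⟨1, T.one_mem, code_one⟩
    refine ⟨a * g, T.mul_mem ha hg, ?_⟩
    rw [Subgroup.coe_mul, code_mul, ha', hg', word, word, List.foldr_cons]

theorem closRun_spec {P D : ℕ} (hK : ∀ g, g ∈ K ↔ g ∈ grp P D) {E : List ℕ} {S : Subgroup K}
    (hE : ∀ g : K, g ∈ S ↔ code (g : Equiv.Perm GolayPt) ∈ E)
    (hsurj : ∀ k ∈ E, ∃ g : K, code (g : Equiv.Perm GolayPt) = k) {T : Subgroup K} (hT : ClosedIn S T) :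
    ∀ (steps : List (List ℕ × ℕ × ℕ)) (L L' : List ℕ), Codes T L → closRun P D E L steps = some L' → Codes T L'
  | [], L, L', hL, h => by rw [closRun, Option.some_inj] at h; exact h ▸ hL
  | (w, g, y) :: rest, L, L', hL, h => by
    rw [closRun] at h
    split at h
    · rename_i hc
      simp only [Bool.and_eq_true, beq_iff_eq, List.contains_iff_mem] at hc
      obtain ⟨⟨hg, hy⟩, heq⟩ := hc
      obtain ⟨g0, hg0, hgc⟩ := exists_of_memB hg
      obtain ⟨x, hx, hxc⟩ := word_mem hL w
      obtain ⟨y', hyc⟩ := hsurj y hy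
      let γ : K := ⟨g0, (hK g0).2 hg0⟩
      have hconj : γ * x * γ⁻¹ = y' := by
        rw [mul_inv_eq_iff_eq_mul]
        refine Subtype.ext (code_injective ?_)
        rw [Subgroup.coe_mul, Subgroup.coe_mul, code_mul, code_mul, hxc, hyc]
        show pmul (code g0) _ = pmul y (code g0)
        rw [hgc]; exact heq
      have hyT : y' ∈ T := by
        rw [← hconj]
        refine hT.2 x hx γ ?_
        rw [hconj, hE, hyc]; exact hy
      refine closRun_spec hK hE hsurj hT rest _ _ (fun p hp => ?_) h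
      rcases List.mem_append.1 hp with hp | hp
      · exact hL p hp
      · exact ⟨y', hyT, by rw [List.mem_singleton.1 hp, hyc]⟩
    · cases h

end Closed

section Odd

theorem exists_fixed {n : Equiv.Perm GolayPt} {m : ℕ} (hn : (orderOf n).Prime) (hn2 : orderOf n ≠ 2)
    (hinv : n • toSet m = toSet m) (hcard : 16777216 % pc m = 0) :
    ∃ y ∈ toSet m, n y = y := by
  have : Fact (orderOf n).Prime := ⟨hn⟩
  have hs : ∀ x, n x ∈ toSet m ↔ x ∈ toSet m := fun x => by
    conv_lhs => rw [← hinv, ← Equiv.Perm.smul_def, Finset.smul_mem_smul_finset_iff]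
  obtain ⟨⟨y, hy⟩, hfix⟩ := Equiv.Perm.exists_fixed_point_of_prime (p := orderOf n) (n := 1)
    (α := {x // x ∈ toSet m}) (σ := n.subtypePerm hs) (by
      rw [Fintype.card_coe, card_toSet]
      intro hd
      have h2 : orderOf n ∣ 2 ^ 24 := dvd_trans hd (Nat.dvd_of_mod_eq_zero hcard)
      exact hn2 ((Nat.prime_dvd_prime_iff_eq hn Nat.prime_two).1 (hn.dvd_of_dvd_pow h2)))
    (by
      rw [pow_one, Equiv.Perm.subtypePerm_pow]
      ext x
      simp [pow_orderOf_eq_one])
  exact ⟨y, hy, congrArg Subtype.val hfix⟩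

variable {D z : ℕ} {E : List ℕ} {H : Subgroup (Equiv.Perm GolayPt)}

/-- What is known about a putative element of odd prime order normalizing `H`. -/
structure Odd' (D z : ℕ) (H : Subgroup (Equiv.Perm GolayPt)) (n : Equiv.Perm GolayPt) : Prop where
  mem : n ∈ M24
  invD : n • toSet D = toSet D
  norm : n ∈ Subgroup.normalizer (H : Set (Equiv.Perm GolayPt))
  prime : (orderOf n).Prime
  ne_two : orderOf n ≠ 2
  comm : ∀ i < 24, ix (n (pt (papp z i))) = papp z (ix (n (pt i)))

theorem fix_spec {n : Equiv.Perm GolayPt} (hn : Odd' D z H n) {F F' : ℕ} (hF : FixMask n F) (s : Fix)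
    (h : s.run z F = some F') : FixMask n F' := by
  cases s with
  | z i =>
    simp only [Fix.run] at h
    split at h
    · rename_i hc
      simp only [Bool.and_eq_true, decide_eq_true_eq] at hc
      rw [Option.some_inj] at h; subst h
      intro x hx
      rw [toSet_or, Finset.mem_union] at hx
      rcases hx with hx | hx
      · exact hF x hx
      · rw [mem_toSet, Nat.testBit_two_pow, decide_eq_true_eq] at hx
        have h1 : n (pt i) = pt i := hF _ (mem_toSet.2 (by rw [ix_pt hc.1]; exact hc.2))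
        have h2 := hn.comm i hc.1
        rw [h1, ix_pt hc.1, hx, pt_ix] at h2
        exact ix_injective h2
    · cases h
  | oct x os =>
    simp only [Fix.run] at h
    split at h
    · rw [Option.some_inj] at h; subst h
      exact step_fix hn.mem hF (by assumption)
    · cases h

theorem runFix_spec {n : Equiv.Perm GolayPt} (hn : Odd' D z H n) :
    ∀ (l : List Fix) (F : ℕ), FixMask n F → runFix z F l = true → False
  | [], F, hF, h => by
    simp only [runFix, beq_iff_eq] at h; subst h
    have : n = 1 := Equiv.ext fun i => hF i (mem_toSet.2 (testBit_full _ (ix_lt i)))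
    have h1 := hn.prime
    rw [this, orderOf_one] at h1
    exact Nat.not_prime_one h1
  | s :: rest, F, hF, h => by
    simp only [runFix] at h
    split at h
    · exact runFix_spec hn rest _ (fix_spec hn hF s (by assumption)) h
    · cases h

theorem mem_orbMask {SF : List ℕ} {i : ℕ} {y : GolayPt} :
    y ∈ toSet (orbMask SF i) ↔ ∃ s ∈ SF, papp s i = ix y := by
  rw [mem_toSet]
  induction SF with
  | nil => simp [orbMask]
  | cons a l ih =>
    rw [orbMask, List.foldr_cons, Nat.testBit_or, Bool.or_eq_true, ← orbMask, ih, Nat.testBit_two_pow]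
    simp

theorem orbit_smul (hE : ∀ g, g ∈ H ↔ code g ∈ E) (hsurj : ∀ k ∈ E, ∃ g, code g = k)
    {n : Equiv.Perm GolayPt} (hn : n ∈ Subgroup.normalizer (H : Set (Equiv.Perm GolayPt))) {F : ℕ}
    (hF : FixMask n F) {i : ℕ} (hi : i < 24) :
    n • toSet (orbMask (E.filter fun s => fixB s F) i) =
      toSet (orbMask (E.filter fun s => fixB s F) (ix (n (pt i)))) := by
  have key : ∀ j < 24, ∀ y, y ∈ toSet (orbMask (E.filter fun s => fixB s F) j) ↔
      ∃ h ∈ H, FixMask h F ∧ h (pt j) = y := by
    intro j hj y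
    rw [mem_orbMask]
    constructor
    · rintro ⟨s, hs, hsy⟩
      rw [List.mem_filter] at hs
      obtain ⟨g, rfl⟩ := hsurj s hs.1
      exact ⟨g, (hE g).2 hs.1, fixMask_iff.2 hs.2, ix_injective (by rw [← papp_code g hj, hsy])⟩
    · rintro ⟨h, hh, hhF, rfl⟩
      exact ⟨code h, List.mem_filter.2 ⟨(hE h).1 hh, fixMask_iff.1 hhF⟩, papp_code h hj⟩
  have hFi : ∀ x ∈ toSet F, n⁻¹ x = x := fun x hx => by
    conv_lhs => rw [← hF x hx]
    exact n.symm_apply_apply x
  ext y
  rw [Finset.mem_smul_finset, key _ (ix_lt _), pt_ix]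
  constructor
  · rintro ⟨x, hx, rfl⟩
    obtain ⟨h, hh, hhF, rfl⟩ := (key i hi x).1 hx
    refine ⟨n * h * n⁻¹, (Subgroup.mem_normalizer_iff.1 hn h).1 hh, fun x hx => ?_, ?_⟩
    · simp only [Equiv.Perm.mul_apply]; rw [hFi x hx, hhF x hx, hF x hx]
    · simp [Equiv.Perm.smul_def]
  · rintro ⟨h, hh, hhF, rfl⟩
    refine ⟨(n⁻¹ * h * n⁻¹⁻¹) (pt i), (key i hi _).2 ⟨_, (Subgroup.mem_normalizer_iff.1 (inv_mem hn) h).1 hh,
      fun x hx => ?_, rfl⟩, by simp [Equiv.Perm.smul_def]⟩
    rw [inv_inv]; simp only [Equiv.Perm.mul_apply]; rw [hF x hx, hhF x hx, hFi x hx]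

theorem cert_spec (hE : ∀ g, g ∈ H ↔ code g ∈ E) (hsurj : ∀ k ∈ E, ∃ g, code g = k)
    (hH : ∀ h ∈ H, h ∈ M24 ∧ h • toSet D = toSet D)
    (hz : ∀ h ∈ H, ∀ i < 24, ix (h (pt (papp z i))) = papp z (ix (h (pt i)))) :
    ∀ (c : Cert) (F : ℕ), c.ok D z E F = true →
      ∀ n : Equiv.Perm GolayPt, Odd' D z H n → FixMask n F → False
  | .branch k tbl, F, h, n, hn, hF => by
    simp only [Cert.ok, Bool.and_eq_true, beq_iff_eq, List.all_eq_true, List.mem_range,
      Bool.or_eq_true, Bool.not_eq_true', List.any_eq_true] at h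
    obtain ⟨hcard, htbl⟩ := h
    have hinv : ∀ x, n x ∈ toSet (branchSet D F k) ↔ x ∈ toSet (branchSet D F k) := by
      intro x
      have hDx : (D.testBit (ix (n x))) = D.testBit (ix x) := by
        rw [Bool.eq_iff_iff, ← mem_toSet, ← mem_toSet]
        conv_lhs => rw [← hn.invD, ← Equiv.Perm.smul_def, Finset.smul_mem_smul_finset_iff]
      have hFx : (F.testBit (ix (n x))) = F.testBit (ix x) := by
        rw [Bool.eq_iff_iff, ← mem_toSet, ← mem_toSet]
        exact ⟨fun h => n.injective (hF _ h) ▸ h, fun h => (hF x h).symm ▸ h⟩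
      match k with
      | 0 => simp [branchSet, mem_toSet, hFx, testBit_full _ (ix_lt _)]
      | 1 => simp [branchSet, mem_toSet, hFx, hDx, testBit_full _ (ix_lt _)]
      | _ + 2 => simp [branchSet, mem_toSet, hFx, hDx, testBit_full _ (ix_lt _)]
    obtain ⟨y, hy, hny⟩ := exists_fixed hn.prime hn.ne_two (by
      ext x
      rw [Finset.mem_smul_finset]
      exact ⟨fun ⟨u, hu, hux⟩ => hux ▸ (hinv u).2 hu,
        fun hx => ⟨n⁻¹ x, (hinv _).1 (by rw [show n (n⁻¹ x) = x from n.apply_symm_apply x]; exact hx),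
          n.apply_symm_apply x⟩⟩) hcard
    rcases htbl (ix y) (ix_lt y) with h' | ⟨e, -, he, hrun⟩
    · rw [mem_toSet, h'] at hy; cases hy
    refine runFix_spec hn _ _ (fun x hx => ?_) hrun
    rw [toSet_or, Finset.mem_union] at hx
    rcases hx with hx | hx
    · exact hF x hx
    · rw [mem_toSet, Nat.testBit_two_pow, decide_eq_true_eq] at hx
      rwa [ix_injective hx.symm]
  | .fix s c, F, h, n, hn, hF => by
    simp only [Cert.ok] at h
    split at h
    · exact cert_spec hE hsurj hH hz c _ h n hn (fix_spec hn hF s (by assumption))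
    · cases h
  | .orb q q' c, F, h, n, hn, hF => by
    simp only [Cert.ok, orbOk, Bool.and_eq_true, decide_eq_true_eq, Bool.not_eq_true', beq_iff_eq,
      List.all_eq_true, List.mem_range, Bool.or_eq_true, bne_iff_ne] at h
    obtain ⟨⟨⟨⟨⟨⟨⟨⟨hq, hq'⟩, hFq⟩, hFq'⟩, hD⟩, hpc⟩, hcard⟩, hall⟩, hc⟩ := h
    set SF := E.filter fun s => fixB s F with hSF
    have himg : ∀ p < 24, F.testBit p = false → D.testBit p = D.testBit q →
        pc (orbMask SF p) = pc (orbMask SF q) →
        n • toSet (orbMask SF p) = toSet (orbMask SF q) ∨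
          n • toSet (orbMask SF p) = toSet (orbMask SF q') := by
      intro p hp hpF hpD hpp
      have hsm := orbit_smul hE hsurj hn.norm hF hp
      rw [← hSF] at hsm
      rcases hall (ix (n (pt p))) (ix_lt _) with (((h1 | h1) | h1) | h1) | h1
      · exfalso
        have h2 : n (pt p) ∈ toSet F := mem_toSet.2 h1
        have h3 := n.injective (hF _ h2)
        rw [h3, mem_toSet, ix_pt hp, hpF] at h2
        cases h2
      · refine absurd ?_ h1
        rw [← hpD, Bool.eq_iff_iff, ← mem_toSet]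
        conv_lhs => rw [← hn.invD, ← Equiv.Perm.smul_def, Finset.smul_mem_smul_finset_iff, mem_toSet, ix_pt hp]
      · refine absurd ?_ h1
        rw [← hpp, ← card_toSet, ← card_toSet, ← hsm, Finset.card_smul_finset]
      · left; rw [hsm, h1]
      · right; rw [hsm, h1]
    have hfixO : n • toSet (orbMask SF q) = toSet (orbMask SF q) := by
      rcases himg q hq hFq rfl rfl with h1 | h1
      · exact h1
      rcases himg q' hq' hFq' hD hpc with h2 | h2
      · obtain ⟨m, hm⟩ := hn.prime.odd_of_ne_two hn.ne_two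
        have h3 : ∀ j : ℕ, n ^ (2 * j) • toSet (orbMask SF q) = toSet (orbMask SF q) := by
          intro j
          induction j with
          | zero => simp
          | succ j ih => rw [mul_add, pow_add, mul_smul, mul_one, pow_two, mul_smul, h1, h2, ih]
        have h4 := pow_orderOf_eq_one n
        rw [hm, pow_succ'] at h4
        conv_lhs => rw [← h3 m]
        rw [← mul_smul, h4, one_smul]
      · have he : toSet (orbMask SF q) = toSet (orbMask SF q') := smul_left_cancel n (h1.trans h2.symm)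
        exact h1.trans he.symm
    obtain ⟨y, hy, hny⟩ := exists_fixed hn.prime hn.ne_two hfixO hcard
    rw [mem_orbMask] at hy
    obtain ⟨s, hs, hsy⟩ := hy
    rw [hSF, List.mem_filter] at hs
    obtain ⟨g, rfl⟩ := hsurj s hs.1
    have hgH : g ∈ H := (hE g).2 hs.1
    have hgF : FixMask g F := fixMask_iff.2 hs.2
    have hgy : g (pt q) = y := ix_injective (by rw [← papp_code g hq, hsy])
    have hginv : ∀ x ∈ toSet F, g⁻¹ x = x := fun x hx => by
      conv_lhs => rw [← hgF x hx]
      exact g.symm_apply_apply x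
    refine cert_spec hE hsurj hH hz c _ hc (g⁻¹ * n * g) ⟨?_, ?_, ?_, ?_, ?_, fun i hi => ?_⟩ fun x hx => ?_
    · exact M24.mul_mem (M24.mul_mem (M24.inv_mem (hH g hgH).1) hn.mem) (hH g hgH).1
    · rw [mul_smul, mul_smul, (hH g hgH).2, hn.invD, inv_smul_eq_iff, (hH g hgH).2]
    · exact Subgroup.mul_mem _ (Subgroup.mul_mem _ (inv_mem (Subgroup.le_normalizer hgH)) hn.norm)
        (Subgroup.le_normalizer hgH)
    · have := MulEquiv.orderOf_eq (MulAut.conj g⁻¹) n
      rw [MulAut.conj_apply, inv_inv] at this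
      rw [this]; exact hn.prime
    · have := MulEquiv.orderOf_eq (MulAut.conj g⁻¹) n
      rw [MulAut.conj_apply, inv_inv] at this
      rw [this]; exact hn.ne_two
    · simp only [Equiv.Perm.mul_apply]
      have step : ∀ k : Equiv.Perm GolayPt, (∀ j < 24, ix (k (pt (papp z j))) = papp z (ix (k (pt j)))) →
          ∀ x : GolayPt, k (pt (papp z (ix x))) = pt (papp z (ix (k x))) := fun k hk x => by
        conv_rhs => rw [← pt_ix x, ← hk _ (ix_lt x), pt_ix]
      rw [show g (pt (papp z i)) = pt (papp z (ix (g (pt i)))) by rw [← hz g hgH i hi, pt_ix],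
        step n hn.comm, hz g⁻¹ (H.inv_mem hgH) _ (ix_lt _), pt_ix]
    · rw [toSet_or, Finset.mem_union] at hx
      simp only [Equiv.Perm.mul_apply]
      rcases hx with hx | hx
      · rw [hgF x hx, hF x hx, hginv x hx]
      · rw [mem_toSet, Nat.testBit_two_pow, decide_eq_true_eq] at hx
        have : x = pt q := by rw [hx, pt_ix]
        rw [this, hgy, hny, ← hgy]
        exact g.symm_apply_apply _

end Odd

theorem comm_of_mul {g Z : Equiv.Perm GolayPt} (h : g * Z = Z * g) {i : ℕ} (hi : i < 24) :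
    ix (g (pt (papp (code Z) i))) = papp (code Z) (ix (g (pt i))) := by
  rw [papp_code Z hi, papp_code Z (ix_lt _), pt_ix, pt_ix, ← Equiv.Perm.mul_apply, h, Equiv.Perm.mul_apply]

/-- The two checks of `simple_of_checks` from the certificate. -/
theorem checks_of_allOk (K : Subgroup (Equiv.Perm GolayPt)) (P D : ℕ) (hK : ∀ g, g ∈ K ↔ g ∈ grp P D)
    (gens : List (ℕ × ℕ)) (z : ℕ) (steps : List (List ℕ × ℕ × ℕ)) (words : List (List ℕ)) (c : Cert)
    (h : allOk P D gens z steps words c = true) (m : ℕ) (hm : ¬ 2 ∣ m)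
    (hcard : Nat.card K = 2 ^ gens.length * m) :
    ∃ S₀ : Sylow 2 K, (S₀ : Subgroup K) ≠ ⊥ ∧
      (∀ T : Subgroup K, ClosedIn (S₀ : Subgroup K) T → T ≠ ⊥ → T = S₀) ∧
      ∀ n ∈ Subgroup.normalizer ((S₀ : Subgroup K) : Set K),
        (orderOf n).Prime → orderOf n ≠ 2 → False := by
  simp only [allOk, Bool.and_eq_true, List.all_eq_true, List.contains_iff_mem,
    Bool.not_eq_true', beq_eq_false_iff_ne, beq_iff_eq, Bool.or_eq_true, List.any_eq_true,
    Option.any_eq_true_iff_get] at h
  obtain ⟨⟨⟨⟨⟨⟨⟨hg, hsyl⟩, hzE⟩, hz1⟩, hzc⟩, hcen⟩, hclo⟩, hcert⟩ := h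
  obtain ⟨H, L, hKn, hL, hH, hHc⟩ := syl_spec P D gens [idp] [] ⊥ known_bot bot_le hg hsyl
  obtain ⟨Z, hZ⟩ := hKn.surj z hzE
  have hZH : Z ∈ H := (hKn.mem Z).2 (by rw [hZ]; exact hzE)
  have hZc : ∀ h ∈ H, h * Z = Z * h := by
    intro h hh
    have : H ≤ Subgroup.centralizer {Z} := hKn.gen _ fun g hgL => by
      rw [Subgroup.mem_centralizer_singleton_iff]
      obtain ⟨a, ha, hag⟩ := List.mem_map.1 (((hL _).1 hgL).resolve_left (List.not_mem_nil))
      refine code_injective ?_
      rw [code_mul, code_mul, hZ, ← hag]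
      exact (hzc a ha).1.symm
    exact Subgroup.mem_centralizer_singleton_iff.1 (this hh)
  have hcentre : ∀ u ∈ H, (∀ h ∈ H, h * u = u * h) → u = 1 ∨ u = Z := by
    intro u hu hcomm
    rcases hcen _ ((hKn.mem u).1 hu) with (⟨g, hgm, hne⟩ | h1) | h1
    · obtain ⟨g', rfl⟩ : ∃ g', code g' = g := by
        obtain ⟨a, ha, rfl⟩ := List.mem_map.1 hgm
        obtain ⟨g', -, hg'⟩ := exists_of_memB (hg a ha).1
        exact ⟨g', hg'⟩
      refine absurd ?_ hne
      have hgH : g' ∈ H := by
        obtain ⟨a, ha, hag⟩ := List.mem_map.1 hgm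
        exact (hKn.mem g').2 (hag ▸ (hzc a ha).2)
      rw [← code_mul, ← code_mul, hcomm g' hgH]
    · exact Or.inl (code_injective (h1.trans code_one.symm))
    · exact Or.inr (code_injective (h1.trans hZ.symm))
  have hHK : H ≤ K := fun g hg => (hK g).2 (hH hg)
  have hS0card : Nat.card (H.subgroupOf K) = 2 ^ (Nat.card K).factorization 2 := by
    rw [Nat.card_congr (Subgroup.subgroupOfEquivOfLe hHK).toEquiv, hHc, Subgroup.card_bot, one_mul, hcard,
      Nat.factorization_mul (by positivity) (by omega), Finsupp.add_apply,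
      Nat.Prime.factorization_pow Nat.prime_two, Finsupp.single_eq_same,
      Nat.factorization_eq_zero_of_not_dvd hm, add_zero]
  let S₀ : Sylow 2 K := Sylow.ofCard (H.subgroupOf K) hS0card
  have hS₀ : ∀ g : K, g ∈ (S₀ : Subgroup K) ↔ code (g : Equiv.Perm GolayPt) ∈ elems [idp] (gens.map Prod.fst) :=
    fun g => hKn.mem _
  have hne : (S₀ : Subgroup K) ≠ ⊥ := by
    intro hb
    have : (⟨Z, hHK hZH⟩ : K) ∈ (S₀ : Subgroup K) := hZH
    rw [hb, Subgroup.mem_bot, Subtype.ext_iff, Subgroup.coe_one] at this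
    exact hz1 (by rw [← hZ, show Z = 1 from this, code_one])
  refine ⟨S₀, hne, fun T hT hT1 => ?_, fun n hn hp hp2 => ?_⟩
  · refine le_antisymm hT.1 ?_
    obtain ⟨u, huT, hu1, hucomm⟩ := central_mem_of_closedIn (p := 2) S₀.2 hT hT1
    have huZ : (u : Equiv.Perm GolayPt) = Z :=
      (hcentre u (hT.1 huT) fun h hh => congrArg Subtype.val (hucomm ⟨h, hHK hh⟩ hh)).resolve_left
        fun h1 => hu1 (Subtype.ext h1)
    obtain ⟨hget, hwords⟩ := hclo
    have hcodes := closRun_spec hK hS₀ (fun k hk => by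
        obtain ⟨g, rfl⟩ := hKn.surj k hk
        exact ⟨⟨g, hHK ((hKn.mem g).2 hk)⟩, rfl⟩) hT steps [z] _
      (fun p hp => ⟨u, huT, by rw [List.mem_singleton.1 hp, huZ, hZ]⟩) (Option.some_get hget).symm
    have hle : H ≤ T.map K.subtype := hKn.gen _ fun g hgL => by
      have hgm := ((hL _).1 hgL).resolve_left (List.not_mem_nil)
      rw [← hwords] at hgm
      obtain ⟨w, -, hw⟩ := List.mem_map.1 hgm
      obtain ⟨a, haT, hac⟩ := word_mem hcodes w
      exact ⟨a, haT, code_injective (hac.trans hw)⟩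
    intro x hx
    obtain ⟨y, hy, hyx⟩ := hle hx
    exact (Subtype.ext hyx : y = x) ▸ hy
  · have hn' := (mem_grp.1 ((hK _).1 n.2))
    have hnorm : (n : Equiv.Perm GolayPt) ∈ Subgroup.normalizer (H : Set (Equiv.Perm GolayPt)) := by
      rw [Subgroup.mem_normalizer_iff]
      intro x
      constructor
      · intro hx
        exact (Subgroup.mem_normalizer_iff.1 hn ⟨x, hHK hx⟩).1 hx
      · intro hx
        have hxK : x ∈ K := by
          have := K.mul_mem (K.mul_mem (K.inv_mem n.2) (hHK hx)) n.2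
          simpa [mul_assoc] using this
        exact (Subgroup.mem_normalizer_iff.1 hn ⟨x, hxK⟩).2 hx
    have hnZ : (n : Equiv.Perm GolayPt) * Z = Z * n := by
      have h1 := (Subgroup.mem_normalizer_iff.1 hnorm Z).1 hZH
      have hc' : ∀ h ∈ H, h * ((n : Equiv.Perm GolayPt) * Z * (n : Equiv.Perm GolayPt)⁻¹) =
          (n : Equiv.Perm GolayPt) * Z * (n : Equiv.Perm GolayPt)⁻¹ * h := by
        intro h hh
        have h3 := (Subgroup.mem_normalizer_iff.1 (inv_mem hnorm) h).1 hh
        have h4 := hZc _ h3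
        generalize hm' : (n : Equiv.Perm GolayPt) = N at h4 ⊢
        calc h * (N * Z * N⁻¹) = N * ((N⁻¹ * h * N⁻¹⁻¹) * Z) * N⁻¹ := by group
          _ = N * (Z * (N⁻¹ * h * N⁻¹⁻¹)) * N⁻¹ := by rw [h4]
          _ = N * Z * N⁻¹ * h := by group
      rcases hcentre _ h1 hc' with h2 | h2
      · exfalso; apply hz1
        rw [conj_eq_one_iff] at h2
        rw [← hZ, h2, code_one]
      · exact mul_inv_eq_iff_eq_mul.1 h2
    refine cert_spec hKn.mem hKn.surj (fun h hh => ?_) (fun h hh i hi => ?_) c P hcert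
      (n : Equiv.Perm GolayPt) ⟨hn'.1.1, hn'.2, hnorm, ?_, ?_, fun i hi => ?_⟩ hn'.1.2
    · exact ⟨(mem_grp.1 (hH hh)).1.1, (mem_grp.1 (hH hh)).2⟩
    · rw [← hZ]; exact comm_of_mul (hZc h hh) hi
    · rwa [Subgroup.orderOf_coe]
    · rwa [Subgroup.orderOf_coe]
    · rw [← hZ]; exact comm_of_mul hnZ hi

/-- Simplicity of the 2-fusion system from the certificate. -/
theorem simple_of_allOk (K : Subgroup (Equiv.Perm GolayPt)) (P D : ℕ) (hK : ∀ g, g ∈ K ↔ g ∈ grp P D)
    (gens : List (ℕ × ℕ)) (z : ℕ) (steps : List (List ℕ × ℕ × ℕ)) (words : List (List ℕ)) (c : Cert)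
    (h : allOk P D gens z steps words c = true) (m : ℕ) (hm : ¬ 2 ∣ m)
    (hcard : Nat.card K = 2 ^ gens.length * m) (S : Sylow 2 K) :
    (groupFusionSystem (S : Subgroup K)).IsSimple 2 := by
  obtain ⟨S₀, hne, hA, hB⟩ := checks_of_allOk K P D hK gens z steps words c h m hm hcard
  exact simple_of_checks S₀ hne hA hB S

/-- Self-normalizing Sylow 2-subgroups from the certificate. -/
theorem normalizer_eq_of_allOk (K : Subgroup (Equiv.Perm GolayPt)) (P D : ℕ) (hK : ∀ g, g ∈ K ↔ g ∈ grp P D)
    (gens : List (ℕ × ℕ)) (z : ℕ) (steps : List (List ℕ × ℕ × ℕ)) (words : List (List ℕ)) (c : Cert)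
    (h : allOk P D gens z steps words c = true) (m : ℕ) (hm : ¬ 2 ∣ m)
    (hcard : Nat.card K = 2 ^ gens.length * m) (S : Sylow 2 K) :
    Subgroup.normalizer ((S : Subgroup K) : Set K) = S := by
  obtain ⟨S₀, -, -, hB⟩ := checks_of_allOk K P D hK gens z steps words c h m hm hcard
  refine le_antisymm (fun n hn => ?_) Subgroup.le_normalizer
  obtain ⟨g, hg⟩ := MulAction.exists_smul_eq K S S₀
  have hS₀ : (S₀ : Subgroup K) = (S : Subgroup K).map (MulAut.conj g).toMonoidHom := by rw [← hg]; rfl
  have h2 : IsPGroup 2 (Subgroup.zpowers n) := by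
    refine IsPGroup.iff_card.2 ⟨(orderOf n).primeFactorsList.length, ?_⟩
    rw [Nat.card_zpowers]
    conv_lhs => rw [← Nat.prod_primeFactorsList (orderOf_pos n).ne']
    refine List.prod_eq_pow_card _ _ fun r hr => ?_
    have hrp := Nat.prime_of_mem_primeFactorsList hr
    by_contra hr2
    have hk : orderOf (n ^ (orderOf n / r)) = r :=
      orderOf_pow_orderOf_div (orderOf_pos n).ne' (Nat.dvd_of_mem_primeFactorsList hr)
    have ho : orderOf ((MulAut.conj g) (n ^ (orderOf n / r))) = r :=
      (MulEquiv.orderOf_eq (MulAut.conj g) (n ^ (orderOf n / r))).trans hk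
    refine hB _ ?_ (by rw [ho]; exact hrp) (by rw [ho]; exact hr2)
    rw [hS₀, ← map_normalizer_conj]
    exact ⟨_, Subgroup.pow_mem _ hn _, rfl⟩
  have h3 := S.3 (Q := (S : Subgroup K) ⊔ Subgroup.zpowers n)
    (IsPGroup.to_sup_of_normal_left' S.2 h2 (Subgroup.zpowers_le.2 hn)) le_sup_left
  exact h3.le (Subgroup.mem_sup_right (Subgroup.mem_zpowers n))

end Cfsg.Agent.Fus.Mathieu
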