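import Cfsg.Agent.Fus.Simple

set_option autoImplicit false

/-! A criterion for simplicity of the 2-fusion system of a group with self-normalizing Sylow 2-subgroups. -/

namespace Cfsg.Agent.Fus

open Cfsg Cfsg.FusionSystem
open scoped Pointwise

variable {G : Type*} [Group G]

/-- `T` is closed in `S` under conjugation from the whole group. -/
def ClosedIn (S T : Subgroup G) : Prop :=
  T ≤ S ∧ ∀ x ∈ T, ∀ g : G, g * x * g⁻¹ ∈ S → g * x * g⁻¹ ∈ T

theorem closedIn_of_stronglyClosed {S T : Subgroup G} (h : (groupFusionSystem S).StronglyClosed T) :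
    ClosedIn S T := by
  refine ⟨h.1, fun x hx g hg => ?_⟩
  have hle : Subgroup.zpowers x ≤ T := Subgroup.zpowers_le.2 hx
  have hmap : (Subgroup.zpowers x).map (MulAut.conj g).toMonoidHom ≤ S := by
    rw [MonoidHom.map_zpowers]; exact Subgroup.zpowers_le.2 hg
  exact h.2 _ hle _ (conjHom_mem (hle.trans h.1) hmap) ⟨x, Subgroup.mem_zpowers x⟩

theorem central_mem_of_closedIn [Finite G] {p : ℕ} [Fact p.Prime] {S T : Subgroup G} (hS : IsPGroup p S) (hT : ClosedIn S T)
    (hne : T ≠ ⊥) : ∃ c ∈ T, c ≠ 1 ∧ ∀ s ∈ S, s * c = c * s := by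
  have hn : (T.subgroupOf S).Normal := ⟨fun t ht s =>
    hT.2 t ht s (S.mul_mem (S.mul_mem s.2 t.2) (S.inv_mem s.2))⟩
  let : MulAction S (T.subgroupOf S) :=
    MulAction.compHom _ (MulAut.conjNormal : S →* MulAut (T.subgroupOf S))
  have hT1 : (T.subgroupOf S) ≠ ⊥ := by
    rw [Ne, Subgroup.subgroupOf_eq_bot, disjoint_iff, inf_eq_left.2 hT.1]; exact hne
  have hdvd : p ∣ Nat.card (T.subgroupOf S) := by
    obtain ⟨n, hn'⟩ := IsPGroup.iff_card.1 (hS.to_subgroup (T.subgroupOf S))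
    rw [hn']
    refine dvd_pow_self p fun h0 => hT1 ?_
    exact Subgroup.eq_bot_of_card_eq _ (by rw [hn', h0, pow_zero])
  obtain ⟨c, hc, hc1⟩ := hS.exists_fixed_point_of_prime_dvd_card_of_fixed_point (T.subgroupOf S) hdvd
    (a := 1) (fun s => map_one (MulAut.conjNormal s))
  refine ⟨((c : S) : G), c.2, fun h => hc1 (Subtype.ext (Subtype.ext h.symm)), fun s hs => ?_⟩
  have h := congrArg (fun t : T.subgroupOf S => ((t : S) : G)) (hc ⟨s, hs⟩)
  have h' : s * ((c : S) : G) * s⁻¹ = ((c : S) : G) := h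
  exact mul_inv_eq_iff_eq_mul.1 h'

/-- Simplicity from two checks on a single Sylow 2-subgroup. -/
theorem simple_of_checks [Finite G] (S₀ : Sylow 2 G) (hne : (S₀ : Subgroup G) ≠ ⊥)
    (hA : ∀ T : Subgroup G, ClosedIn (S₀ : Subgroup G) T → T ≠ ⊥ → T = S₀)
    (hB : ∀ n ∈ Subgroup.normalizer ((S₀ : Subgroup G) : Set G), (orderOf n).Prime → orderOf n ≠ 2 → False)
    (S : Sylow 2 G) : (groupFusionSystem (S : Subgroup G)).IsSimple 2 := by
  obtain ⟨g, hg⟩ := MulAction.exists_smul_eq G S₀ S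
  have hS : (S : Subgroup G) = (S₀ : Subgroup G).map (MulAut.conj g).toMonoidHom := by
    rw [← hg]; rfl
  refine simple_of_inn (isSaturated_group S) ?_ (fun T hT => ?_) fun α hα => ?_
  · rw [hS, Ne, Subgroup.map_eq_bot_iff_of_injective _ (MulAut.conj g).injective]; exact hne
  · by_cases h1 : T = ⊥
    · exact Or.inl h1
    right
    obtain ⟨hle, hcl⟩ := closedIn_of_stronglyClosed hT
    have hT' := hA (T.map (MulAut.conj g⁻¹).toMonoidHom) ⟨?_, ?_⟩ ?_
    · rw [hS, ← hT', map_conj_map_conj, mul_inv_cancel, map_conj_one]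
    · refine (Subgroup.map_mono hle).trans ?_
      rw [hS, map_conj_map_conj, inv_mul_cancel, map_conj_one]
    · rintro _ ⟨x, hx, rfl⟩ k hk
      refine ⟨g * (k * ((MulAut.conj g⁻¹).toMonoidHom x) * k⁻¹) * g⁻¹, ?_, ?_⟩
      · have e : g * (k * ((MulAut.conj g⁻¹).toMonoidHom x) * k⁻¹) * g⁻¹ =
            (g * k * g⁻¹) * x * (g * k * g⁻¹)⁻¹ := by
          show g * (k * (g⁻¹ * x * g⁻¹⁻¹) * k⁻¹) * g⁻¹ = _
          group
        rw [e]
        refine hcl x hx _ ?_
        rw [← e, hS]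
        exact ⟨_, hk, rfl⟩
      · show g⁻¹ * _ * g⁻¹⁻¹ = _
        group
    · rwa [Ne, Subgroup.map_eq_bot_iff_of_injective _ (MulAut.conj g⁻¹).injective]
  · rw [autGroup_group le_rfl] at hα
    obtain ⟨n, -, hn⟩ := mem_autInducedBy.1 hα
    have hnN : n ∈ Subgroup.normalizer ((S : Subgroup G) : Set G) := mem_normalizer_of_aut hn
    have hord : ∀ r : ℕ, r.Prime → r ∣ orderOf n → r = 2 := by
      intro r hr hrd
      by_contra hr2
      have hk : orderOf (n ^ (orderOf n / r)) = r :=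
        orderOf_pow_orderOf_div (orderOf_pos n).ne' hrd
      have hm : g⁻¹ * n ^ (orderOf n / r) * g⁻¹⁻¹ ∈ Subgroup.normalizer ((S₀ : Subgroup G) : Set G) := by
        have h2 : (S₀ : Subgroup G) = (S : Subgroup G).map (MulAut.conj g⁻¹).toMonoidHom := by
          rw [hS, map_conj_map_conj, inv_mul_cancel, map_conj_one]
        rw [h2, ← map_normalizer_conj]
        exact ⟨_, Subgroup.pow_mem _ hnN _, rfl⟩
      have ho : orderOf (g⁻¹ * n ^ (orderOf n / r) * g⁻¹⁻¹) = r :=
        (MulEquiv.orderOf_eq (MulAut.conj g⁻¹) (n ^ (orderOf n / r))).trans hk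
      exact hB _ hm (by rw [ho]; exact hr) (by rw [ho]; exact hr2)
    have h2 : IsPGroup 2 (Subgroup.zpowers n) := by
      refine IsPGroup.iff_card.2 ⟨(orderOf n).primeFactorsList.length, ?_⟩
      rw [Nat.card_zpowers]
      conv_lhs => rw [← Nat.prod_primeFactorsList (orderOf_pos n).ne']
      refine List.prod_eq_pow_card _ _ fun r hr => ?_
      exact hord r (Nat.prime_of_mem_primeFactorsList hr) (Nat.dvd_of_mem_primeFactorsList hr)
    have h3 := S.3 (Q := (S : Subgroup G) ⊔ Subgroup.zpowers n)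
      (IsPGroup.to_sup_of_normal_left' S.2 h2 (Subgroup.zpowers_le.2 hnN)) le_sup_left
    have hnS : n ∈ (S : Subgroup G) := h3.le (Subgroup.mem_sup_right (Subgroup.mem_zpowers n))
    rw [inn_eq_autInducedBy]
    exact mem_autInducedBy.2 ⟨n, hnS, hn⟩

end Cfsg.Agent.Fus
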