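import Cfsg.Agent.Fus.MathieuCert

set_option autoImplicit false

/-! Certificate data for the 2-fusion system of `M11`. -/

namespace Cfsg.Agent.Fus.Mathieu.DataM11

/-- Generators of a Sylow 2-subgroup, with inverses. -/
def gens : List (ℕ × ℕ) := [(809578383745993820496847424931136576, 809578383745993820496847424931136576),
  (429964962518238453675404974378848512, 712944863855302027593945974449676416),
  (970531819526550031117983620406741024, 970531819526550031117983620406741024),
  (221510992443372744787693727449648544, 479827523199929007979175450324841568)]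

/-- The central involution. -/
def zed : ℕ := 809578383745993820496847424931136576

/-- Conjugation steps. -/
def steps : List (List ℕ × ℕ × ℕ) := [([0], 651153691786633276259202146710717696, 435164862652805219953057134465356032),
  ([0], 482302356242846256536795063707514144, 796590033492984268806335733761967168),
  ([2, 1], 731125506121517694597413248801453152, 221510992443372744787693727449648544)]

/-- The generators as words. -/
def words : List (List ℕ) := [[0], [2, 1], [2, 0], [3]]

/-- The search tree. -/
def cert : Cert := .orb 6 6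
  (.orb 16 16
  (.orb 18 18
  (.orb 7 7
  (.branch 1 [(1, [.z 1, .oct 3 [90318, 262637], .z 3, .oct 4 [12656663, 663645], .z 4, .oct 5 [4526126, 8663097, 1384564], .z 5, .oct 9 [2564625, 57883], .z 9, .oct 10 [861210, 504864], .z 10, .oct 14 [13062145, 1302533], .oct 15 [4845570, 9347075, 1302533], .z 15, .oct 19 [4845570], .z 19, .oct 20 [13938692], .oct 21 []]),
    (2, [.z 2, .oct 3 [90318, 262637], .z 3, .oct 4 [12656663, 663645], .z 4, .oct 5 [4526126, 8663097, 1384564], .z 5, .oct 9 [2564625, 57883], .z 9, .oct 10 [861210, 504864], .z 10, .oct 14 [13062145, 1302533], .oct 15 [4845570, 9347075, 1302533], .z 15, .oct 19 [4845570], .z 19, .oct 20 [13938692], .oct 21 []]),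
    (3, [.z 3, .oct 1 [90318, 8716939], .z 1, .oct 4 [12656663, 663645], .z 4, .oct 5 [4526126, 8663097, 1384564], .z 5, .oct 9 [2564625, 57883], .z 9, .oct 10 [861210, 504864], .z 10, .oct 14 [13062145, 1302533], .oct 15 [4845570, 9347075, 1302533], .z 15, .oct 19 [4845570], .z 19, .oct 20 [13938692], .oct 21 []]),
    (4, [.z 4, .oct 1 [2425238, 4264387], .z 1, .oct 3 [8683614, 2162811], .z 3, .oct 5 [4526126, 8663097, 1384564], .z 5, .oct 9 [2564625, 57883], .z 9, .oct 10 [861210, 504864], .z 10, .oct 14 [13062145, 1302533], .oct 15 [4845570, 9347075, 1302533], .z 15, .oct 19 [4845570], .z 19, .oct 20 [13938692], .oct 21 []]),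
    (8, [.z 8, .oct 1 [2425238, 4264387], .z 1, .oct 3 [8683614, 2162811], .z 3, .oct 5 [4526126, 8663097, 1384564], .z 5, .oct 9 [2564625, 57883], .z 9, .oct 10 [861210, 504864], .z 10, .oct 14 [13062145, 1302533], .oct 15 [4845570, 9347075, 1302533], .z 15, .oct 19 [4845570], .z 19, .oct 20 [13938692], .oct 21 []]),
    (9, [.z 9, .oct 1 [4264387, 8716939], .z 1, .oct 3 [4526126, 806987], .z 3, .oct 4 [1413139, 421910], .z 4, .oct 5 [4526126, 8663097], .z 5, .oct 10 [861210, 504864], .z 10, .oct 14 [13062145, 1302533], .oct 15 [4845570, 9347075, 1302533], .z 15, .oct 19 [4845570], .z 19, .oct 20 [13938692], .oct 21 []]),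
    (12, [.z 12, .oct 1 [4264387, 8716939], .z 1, .oct 3 [4526126, 806987], .z 3, .oct 4 [1413139, 421910], .z 4, .oct 5 [4526126, 8663097], .z 5, .oct 10 [861210, 504864], .z 10, .oct 14 [13062145, 1302533], .oct 15 [4845570, 9347075, 1302533], .z 15, .oct 19 [4845570], .z 19, .oct 20 [13938692], .oct 21 []]),
    (13, [.z 13, .oct 1 [90318, 8716939], .z 1, .oct 4 [12656663, 663645], .z 4, .oct 5 [4526126, 8663097, 1384564], .z 5, .oct 9 [2564625, 57883], .z 9, .oct 10 [861210, 504864], .z 10, .oct 14 [13062145, 1302533], .oct 15 [4845570, 9347075, 1302533], .z 15, .oct 19 [4845570], .z 19, .oct 20 [13938692], .oct 21 []])]))))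

theorem ok : allOk 1 340831 gens zed steps words cert = true := by decide +kernel

end Cfsg.Agent.Fus.Mathieu.DataM11
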