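import Cfsg.Agent.M24.Perm
import Cfsg.Agent.Fus.MathieuCriterion

set_option autoImplicit false
set_option maxHeartbeats 400000

/-!
Certificates, in packed permutations of the 24 points, for the hypotheses of `simple_of_checks`
in subgroups of `Cfsg.M24`.
-/

namespace Cfsg.Agent.Fus.Mathieu

open Cfsg Cfsg.Agent.M24
open scoped Pointwise

/-- Pack `k` values of `f`, from `i` on, five bits each. -/
def pk (f : ℕ → ℕ) : ℕ → ℕ → ℕ
  | 0, _ => 0
  | k + 1, i => f i + 32 * pk f k (i + 1)

/-- The packed identity. -/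
def idp : ℕ := pk id 24 0

/-- Packed composition. -/
def pmul (p q : ℕ) : ℕ := pk (fun i => papp p (papp q i)) 24 0

/-- Packed form of a permutation. -/
def code (g : Equiv.Perm GolayPt) : ℕ := pk (fun i => ix (g (pt i))) 24 0

theorem pk_congr {f f' : ℕ → ℕ} : ∀ k i : ℕ, (∀ j, i ≤ j → j < i + k → f j = f' j) → pk f k i = pk f' k i
  | 0, _, _ => rfl
  | k + 1, i, h => by
    rw [pk, pk, h i le_rfl (by omega), pk_congr k (i + 1) fun j h1 h2 => h j (by omega) (by omega)]

theorem papp_pk {f : ℕ → ℕ} (hf : ∀ m, f m < 32) :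
    ∀ k i j : ℕ, j < k → papp (pk f k i) j = f (i + j)
  | 0, _, _, h => absurd h (by omega)
  | k + 1, i, 0, _ => by
    have := hf i
    simp only [papp, pk, Nat.mul_zero, Nat.shiftRight_zero, Nat.add_zero]
    omega
  | k + 1, i, j + 1, h => by
    have h1 := hf i
    have h2 : (f i + 32 * pk f k (i + 1)) >>> 5 = pk f k (i + 1) := by
      rw [Nat.shiftRight_eq_div_pow]; omega
    rw [papp, pk, show 5 * (j + 1) = 5 + 5 * j by omega, Nat.shiftRight_add, h2]
    rw [show i + (j + 1) = i + 1 + j by omega]
    exact papp_pk hf k (i + 1) j (by omega)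

theorem papp_lt (p i : ℕ) : papp p i < 32 := Nat.mod_lt _ (by norm_num)

theorem papp_code (g : Equiv.Perm GolayPt) {i : ℕ} (hi : i < 24) : papp (code g) i = ix (g (pt i)) := by
  rw [code, papp_pk (fun m => (ix_lt _).trans (by norm_num)) 24 0 i hi, Nat.zero_add]

theorem code_injective : Function.Injective code := fun g h hgh => by
  refine Equiv.ext fun x => ix_injective ?_
  have h1 := papp_code g (ix_lt x)
  rw [hgh, papp_code h (ix_lt x), pt_ix] at h1
  exact h1.symm

theorem code_one : code 1 = idp :=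
  pk_congr 24 0 fun j _ hj => by rw [Equiv.Perm.one_apply, ix_pt (by omega)]; rfl

theorem code_mul (g h : Equiv.Perm GolayPt) : code (g * h) = pmul (code g) (code h) :=
  pk_congr 24 0 fun j _ hj => by
    show ix ((g * h) (pt j)) = papp (code g) (papp (code h) j)
    rw [papp_code h (by omega), papp_code g (ix_lt _), pt_ix, Equiv.Perm.mul_apply]

theorem code_eq_toPerm {p : ℕ} (h : okPerm p = true) (hc : pk (papp p) 24 0 = p) : code (toPerm p) = p := by
  conv_rhs => rw [← hc]
  exact pk_congr 24 0 fun j _ hj => by rw [toPerm_pt h (by omega), ix_pt (okPerm_lt h (by omega))]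

/-- `p` fixes all points of the mask `F`. -/
def fixB (p F : ℕ) : Bool := (List.range 24).all fun i => !F.testBit i || papp p i == i

theorem fixMask_iff {g : Equiv.Perm GolayPt} {F : ℕ} : FixMask g F ↔ fixB (code g) F = true := by
  simp only [fixB, List.all_eq_true, List.mem_range, Bool.or_eq_true, Bool.not_eq_true', beq_iff_eq]
  constructor
  · intro h i hi
    by_cases hF : F.testBit i = true
    · right
      rw [papp_code g hi, h (pt i) (mem_toSet.2 (by rwa [ix_pt hi])), ix_pt hi]
    · left; simpa using hF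
  · intro h x hx
    rcases h (ix x) (ix_lt x) with h' | h'
    · rw [mem_toSet, h'] at hx; cases hx
    · rw [papp_code g (ix_lt x), pt_ix] at h'; exact ix_injective h'

/-- Packed permutation lying in the group cut out of `M24` by fixed points `P` and an invariant set `D`. -/
def memB (P D p : ℕ) : Bool :=
  autB p && pk (papp p) 24 0 == p && fixB p P && pimg p D == D

/-- The group cut out by `P` and `D`. -/
def grp (P D : ℕ) : Subgroup (Equiv.Perm GolayPt) :=
  M24 ⊓ fixingSubgroup (Equiv.Perm GolayPt) (toSet P : Set GolayPt) ⊓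
    MulAction.stabilizer (Equiv.Perm GolayPt) (toSet D)

theorem mem_grp {P D : ℕ} {g : Equiv.Perm GolayPt} :
    g ∈ grp P D ↔ (g ∈ M24 ∧ FixMask g P) ∧ g • toSet D = toSet D := by
  simp [grp, mem_fixingSubgroup_iff, FixMask, MulAction.mem_stabilizer_iff]

theorem exists_of_memB {P D p : ℕ} (h : memB P D p = true) : ∃ g ∈ grp P D, code g = p := by
  simp only [memB, Bool.and_eq_true, beq_iff_eq] at h
  obtain ⟨⟨⟨h1, h2⟩, h3⟩, h4⟩ := h
  have hc := code_eq_toPerm (autB_ok h1) h2
  exact ⟨toPerm p, mem_grp.2 ⟨⟨toPerm_mem h1, fixMask_iff.2 (by rw [hc]; exact h3)⟩,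
    by rw [← toSet_pimg (autB_ok h1), h4]⟩, hc⟩

/-! ### A list of all elements of a 2-group -/

/-- One doubling step. -/
def addGen (E : List ℕ) (a : ℕ) : List ℕ := E ++ E.map fun e => pmul e a

/-- All elements, from the doubling steps. -/
def elems : List ℕ → List ℕ → List ℕ
  | E, [] => E
  | E, a :: rest => elems (addGen E a) rest

/-- Check of the doubling steps; each generator comes with its inverse. -/
def sylOk : List ℕ → List ℕ → List (ℕ × ℕ) → Bool
  | _, _, [] => true
  | E, prev, (a, a') :: rest => !E.contains a && E.contains (pmul a a) && pmul a a' == idp &&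
      prev.all (fun g => E.contains (pmul (pmul a g) a')) && sylOk (addGen E a) (a :: prev) rest

variable {G : Type*} [Group G]

/-- The union of `H` and `H * a`. -/
def double (H : Subgroup G) (a : G) (h2 : a * a ∈ H) (hn : ∀ h ∈ H, a * h * a⁻¹ ∈ H)
    (hn' : ∀ h ∈ H, a⁻¹ * h * a ∈ H) : Subgroup G where
  carrier := {g | g ∈ H ∨ g * a⁻¹ ∈ H}
  one_mem' := Or.inl H.one_mem
  mul_mem' := by
    rintro x y (hx | hx) (hy | hy)
    · exact Or.inl (H.mul_mem hx hy)
    · right; rw [mul_assoc]; exact H.mul_mem hx hy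
    · right
      have := H.mul_mem hx (hn y hy)
      simpa [mul_assoc] using this
    · left
      have := H.mul_mem (H.mul_mem hx (hn _ hy)) h2
      simpa [mul_assoc] using this
  inv_mem' := by
    rintro x (hx | hx)
    · exact Or.inl (H.inv_mem hx)
    · right
      have := H.mul_mem (hn' _ (H.inv_mem hx)) (H.inv_mem h2)
      simpa [mul_assoc] using this

theorem mem_double {H : Subgroup G} {a : G} {h2 hn hn'} {g : G} :
    g ∈ double H a h2 hn hn' ↔ g ∈ H ∨ g * a⁻¹ ∈ H := Iff.rfl

theorem card_double [Finite G] {H : Subgroup G} {a : G} {h2 hn hn'} (ha : a ∉ H) :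
    Nat.card (double H a h2 hn hn') = 2 * Nat.card H := by
  have hs : (double H a h2 hn hn' : Set G) = (H : Set G) ∪ (fun h => h * a) '' (H : Set G) := by
    ext g
    simp only [SetLike.mem_coe, mem_double, Set.mem_union, Set.mem_image]
    refine or_congr_right ⟨fun h => ⟨_, h, by simp⟩, ?_⟩
    rintro ⟨h, hh, rfl⟩; simpa using hh
  have hd : Disjoint (H : Set G) ((fun h => h * a) '' (H : Set G)) := by
    rw [Set.disjoint_left]
    rintro g hg ⟨h, hh, rfl⟩
    exact ha ((H.mul_mem_cancel_left hh).1 hg)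
  rw [← SetLike.coe_sort_coe, Nat.card_coe_set_eq, hs,
    Set.ncard_union_eq hd (Set.toFinite _) (Set.toFinite _),
    Set.ncard_image_of_injective _ (mul_left_injective a), two_mul, ← Nat.card_coe_set_eq,
    SetLike.coe_sort_coe]

/-- Subgroups known by their lists of codes, with a generating list. -/
structure Known (H : Subgroup (Equiv.Perm GolayPt)) (E L : List ℕ) : Prop where
  mem : ∀ g, g ∈ H ↔ code g ∈ E
  surj : ∀ k ∈ E, ∃ g, code g = k
  gen : ∀ T : Subgroup (Equiv.Perm GolayPt), (∀ g, code g ∈ L → g ∈ T) → H ≤ T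

theorem known_bot : Known ⊥ [idp] [] where
  mem g := by
    rw [Subgroup.mem_bot, List.mem_singleton, ← code_one]
    exact ⟨fun h => by rw [h], fun h => code_injective h⟩
  surj k hk := ⟨1, by rw [List.mem_singleton.1 hk, code_one]⟩
  gen _ _ := bot_le

theorem syl_spec (P D : ℕ) : ∀ (rest : List (ℕ × ℕ)) (E L : List ℕ) (H : Subgroup (Equiv.Perm GolayPt)),
    Known H E L → H ≤ grp P D →
    (∀ a ∈ rest, memB P D a.1 = true ∧ memB P D a.2 = true) → sylOk E L rest = true →
    ∃ (H' : Subgroup (Equiv.Perm GolayPt)) (L' : List ℕ), Known H' (elems E (rest.map Prod.fst)) L' ∧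
      (∀ p, p ∈ L' ↔ p ∈ L ∨ p ∈ rest.map Prod.fst) ∧ H' ≤ grp P D ∧
      Nat.card H' = Nat.card H * 2 ^ rest.length
  | [], E, L, H, hK, hG, _, _ => ⟨H, L, hK, by simp, hG, by simp⟩
  | (a, a') :: rest, E, L, H, hK, hG, hm, hc => by
    simp only [sylOk, Bool.and_eq_true, Bool.not_eq_true', beq_iff_eq, List.all_eq_true,
      List.contains_iff_mem] at hc
    obtain ⟨⟨⟨⟨c1, c2⟩, c3⟩, c4⟩, c5⟩ := hc
    obtain ⟨x, hxG, hx⟩ := exists_of_memB (hm _ (List.mem_cons_self ..)).1
    obtain ⟨y, -, hy⟩ := exists_of_memB (hm _ (List.mem_cons_self ..)).2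
    dsimp only at hx hy
    have hinv : y = x⁻¹ :=
      eq_inv_of_mul_eq_one_right (code_injective (by rw [code_mul, hx, hy, c3, code_one]))
    have hxH : x ∉ H := fun h => by
      rw [hK.mem, hx, ← List.contains_iff_mem, c1] at h; cases h
    have h2 : x * x ∈ H := by rw [hK.mem, code_mul, hx]; exact c2
    have hn : ∀ h ∈ H, x * h * x⁻¹ ∈ H := by
      refine fun h hh => hK.gen (H.comap (MulAut.conj x).toMonoidHom) (fun g hg => ?_) hh
      show x * g * x⁻¹ ∈ H
      rw [hK.mem, code_mul, code_mul, hx, ← hinv, hy]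
      exact c4 _ hg
    have hn' : ∀ h ∈ H, x⁻¹ * h * x ∈ H := fun h hh => by
      have := H.mul_mem (H.mul_mem (H.inv_mem h2) (hn h hh)) h2
      simpa [mul_assoc] using this
    have hK' : Known (double H x h2 hn hn') (addGen E a) (a :: L) := by
      constructor
      · intro g
        rw [mem_double, addGen, List.mem_append, List.mem_map, hK.mem, hK.mem]
        refine or_congr_right ⟨fun h => ⟨_, h, ?_⟩, ?_⟩
        · rw [← hx, ← code_mul, inv_mul_cancel_right]
        · rintro ⟨e, he, heq⟩
          obtain ⟨k, rfl⟩ := hK.surj e he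
          rw [← hx, ← code_mul] at heq
          rwa [← code_injective heq, mul_inv_cancel_right]
      · intro e he
        rw [addGen, List.mem_append, List.mem_map] at he
        rcases he with he | ⟨k, hk, rfl⟩
        · exact hK.surj e he
        · obtain ⟨g, rfl⟩ := hK.surj k hk
          exact ⟨g * x, by rw [code_mul, hx]⟩
      · intro T hT g hg
        have hxT : x ∈ T := hT x (hx ▸ List.mem_cons_self ..)
        have hHT : H ≤ T := hK.gen T fun k hk => hT k (List.mem_cons_of_mem _ hk)
        rcases mem_double.1 hg with h | h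
        · exact hHT h
        · simpa using T.mul_mem (hHT h) hxT
    have hG' : double H x h2 hn hn' ≤ grp P D := by
      intro g hg
      rcases mem_double.1 hg with h | h
      · exact hG h
      · simpa using (grp P D).mul_mem (hG h) hxG
    obtain ⟨H', L', h1, h2', h3, h4⟩ := syl_spec P D rest _ _ _ hK' hG'
      (fun b hb => hm b (List.mem_cons_of_mem _ hb)) c5
    refine ⟨H', L', h1, fun p => ?_, h3, ?_⟩
    · rw [h2', List.mem_cons, List.map_cons, List.mem_cons, or_assoc, or_left_comm]
    · rw [h4, card_double hxH, List.length_cons, pow_succ]; ring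

end Cfsg.Agent.Fus.Mathieu
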