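import Cfsg.Agent.M24.Facts
import Cfsg.Agent.M24.Orders
import Cfsg.Agent.Fus.MathieuDataM11
import Cfsg.Agent.Fus.MathieuDataM12
import Cfsg.Agent.Fus.MathieuDataM22
import Cfsg.Agent.Fus.MathieuDataM23
import Cfsg.Agent.Fus.MathieuDataM24
import Cfsg.Prelude.Def_Spor_Mathieu

set_option autoImplicit false
set_option maxHeartbeats 400000

/-! The five Mathieu groups as `grp P D`, and their orders. -/

namespace Cfsg.Agent.Fus.Mathieu

open Cfsg Cfsg.Agent.M24
open scoped Pointwise

theorem fixMask_zero (g : Equiv.Perm GolayPt) : FixMask g 0 := fun i hi => by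
  rw [mem_toSet, Nat.zero_testBit] at hi; cases hi

theorem toSet_zero : toSet 0 = ∅ := by ext i; simp [mem_toSet]

theorem squareDodecad_eq : Spor.squareDodecad = toSet 340831 := by decide +kernel

theorem toSet_none : toSet 8388608 = {(none : GolayPt)} := by decide +kernel

theorem toSet_none_zero : toSet 8388609 = {(none : GolayPt), some 0} := by decide +kernel

theorem toSet_some_zero : toSet 1 = {(some 0 : GolayPt)} := by decide +kernel

theorem mem_M24 (g : Equiv.Perm GolayPt) : g ∈ Cfsg.M24 ↔ g ∈ grp 0 0 := by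
  rw [mem_grp, toSet_zero]; simp [fixMask_zero]

theorem mem_M23 (g : Equiv.Perm GolayPt) : g ∈ Spor.M23 ↔ g ∈ grp 8388608 0 := by
  simp only [mem_grp, toSet_zero, FixMask, toSet_none, Spor.M23, Subgroup.mem_inf,
    MulAction.mem_stabilizer_iff]
  simp [Equiv.Perm.smul_def]

theorem mem_M22 (g : Equiv.Perm GolayPt) : g ∈ Spor.M22 ↔ g ∈ grp 8388609 0 := by
  simp only [mem_grp, toSet_zero, FixMask, toSet_none_zero, Spor.M22, Spor.M23, Subgroup.mem_inf,
    MulAction.mem_stabilizer_iff]
  simp [Equiv.Perm.smul_def, and_assoc]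

theorem mem_M12 (g : Equiv.Perm GolayPt) : g ∈ Spor.M12 ↔ g ∈ grp 0 340831 := by
  simp only [mem_grp, Spor.M12, Subgroup.mem_inf, MulAction.mem_stabilizer_iff, squareDodecad_eq]
  simp [fixMask_zero]

theorem mem_M11 (g : Equiv.Perm GolayPt) : g ∈ Spor.M11 ↔ g ∈ grp 1 340831 := by
  simp only [mem_grp, FixMask, toSet_some_zero, Spor.M11, Spor.M12, Subgroup.mem_inf,
    MulAction.mem_stabilizer_iff, squareDodecad_eq]
  simp [Equiv.Perm.smul_def]; tauto

theorem card_M23 : Nat.card Spor.M23 = 10200960 := by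
  rw [← card_stabilizer_point none, card_stabilizer_subgroup]; rfl

theorem card_M22 : Nat.card Spor.M22 = 443520 := by
  rw [← card_stabilizer_two none (some 0) (by simp)]
  refine Nat.card_congr
    { toFun := fun g => ⟨⟨g.1, g.2.1.1⟩, g.2.1.2, g.2.2⟩
      invFun := fun g => ⟨g.1.1, ⟨g.1.2, g.2.1⟩, g.2.2⟩
      left_inv := fun g => rfl
      right_inv := fun g => rfl }

theorem squareDodecad_mem : Spor.squareDodecad ∈ dodecads := by
  rw [squareDodecad_eq, mem_dodecads_iff, toMask_toSet (by norm_num)]; decide +kernel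

theorem card_M12 : Nat.card Spor.M12 = 95040 := card_stab_dodecad squareDodecad_mem

theorem card_M11 : Nat.card Spor.M11 = 7920 :=
  card_stab_dodecad_pt squareDodecad_mem (by rw [squareDodecad_eq]; decide +kernel)

theorem simple_M24 (S : Sylow 2 Cfsg.M24) :
    (groupFusionSystem (S : Subgroup Cfsg.M24)).IsSimple 2 :=
  simple_of_allOk _ _ _ mem_M24 _ _ _ _ _ DataM24.ok 239085 (by norm_num)
    (by rw [M24.card_M24, show DataM24.gens.length = 10 from rfl]; norm_num) S

theorem simple_M23 (S : Sylow 2 Spor.M23) :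
    (groupFusionSystem (S : Subgroup Spor.M23)).IsSimple 2 :=
  simple_of_allOk _ _ _ mem_M23 _ _ _ _ _ DataM23.ok 79695 (by norm_num)
    (by rw [card_M23, show DataM23.gens.length = 7 from rfl]; norm_num) S

theorem simple_M22 (S : Sylow 2 Spor.M22) :
    (groupFusionSystem (S : Subgroup Spor.M22)).IsSimple 2 :=
  simple_of_allOk _ _ _ mem_M22 _ _ _ _ _ DataM22.ok 3465 (by norm_num)
    (by rw [card_M22, show DataM22.gens.length = 7 from rfl]; norm_num) S

theorem simple_M12 (S : Sylow 2 Spor.M12) :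
    (groupFusionSystem (S : Subgroup Spor.M12)).IsSimple 2 :=
  simple_of_allOk _ _ _ mem_M12 _ _ _ _ _ DataM12.ok 1485 (by norm_num)
    (by rw [card_M12, show DataM12.gens.length = 6 from rfl]; norm_num) S

theorem simple_M11 (S : Sylow 2 Spor.M11) :
    (groupFusionSystem (S : Subgroup Spor.M11)).IsSimple 2 :=
  simple_of_allOk _ _ _ mem_M11 _ _ _ _ _ DataM11.ok 495 (by norm_num)
    (by rw [card_M11, show DataM11.gens.length = 4 from rfl]; norm_num) S

theorem normalizer_M24 (S : Sylow 2 Cfsg.M24) :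
    Subgroup.normalizer ((S : Subgroup Cfsg.M24) : Set Cfsg.M24) = S :=
  normalizer_eq_of_allOk _ _ _ mem_M24 _ _ _ _ _ DataM24.ok 239085 (by norm_num)
    (by rw [M24.card_M24, show DataM24.gens.length = 10 from rfl]; norm_num) S

end Cfsg.Agent.Fus.Mathieu
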